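import Mathlib
import Groth.Agent.S17901

/-! Fibre products of rings under flat base change and localization. -/

set_option autoImplicit false
set_option maxHeartbeats 1000000
universe u

open CategoryTheory TensorProduct

namespace PinchBCLib

/-- A fibre product of rings localizes. -/
theorem fibre_localization {A B B' C AL BL B'L CL : Type u} [CommRing A] [CommRing B] [CommRing B'] [CommRing C]
    [CommRing AL] [CommRing BL] [CommRing B'L] [CommRing CL]
    [Algebra A AL] [Algebra B BL] [Algebra B' B'L] [Algebra C CL]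
    (a : A →+* B) (b : A →+* B') (f : B →+* C) (g : B' →+* C)
    (aL : AL →+* BL) (bL : AL →+* B'L) (fL : BL →+* CL) (gL : B'L →+* CL) (h : A)
    [IsLocalization.Away h AL] [IsLocalization.Away (a h) BL] [IsLocalization.Away (b h) B'L]
    [IsLocalization.Away (f (a h)) CL]
    (ca : ∀ x, aL (algebraMap A AL x) = algebraMap B BL (a x)) (cb : ∀ x, bL (algebraMap A AL x) = algebraMap B' B'L (b x))
    (cf : ∀ x, fL (algebraMap B BL x) = algebraMap C CL (f x)) (cg : ∀ x, gL (algebraMap B' B'L x) = algebraMap C CL (g x))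
    (hw : ∀ x, f (a x) = g (b x))
    (hinj : ∀ p, a p = 0 → b p = 0 → p = 0) (hex : ∀ s t, f s = g t → ∃ p, a p = s ∧ b p = t) :
    (∀ p, aL p = 0 → bL p = 0 → p = 0) ∧ ∀ s t, fL s = gL t → ∃ p, aL p = s ∧ bL p = t := by
  have hu : IsUnit (algebraMap A AL h) := IsLocalization.Away.algebraMap_isUnit h
  refine ⟨fun p hp hp' => ?_, fun s t hst => ?_⟩
  · obtain ⟨n, x, hx⟩ := IsLocalization.Away.surj h p
    have h1 : algebraMap B BL (a x) = 0 := by rw [← ca, ← hx, map_mul, hp, zero_mul]
    have h2 : algebraMap B' B'L (b x) = 0 := by rw [← cb, ← hx, map_mul, hp', zero_mul]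
    obtain ⟨⟨_, i, rfl⟩, hi⟩ := (IsLocalization.map_eq_zero_iff (Submonoid.powers (a h)) BL _).mp h1
    obtain ⟨⟨_, j, rfl⟩, hj⟩ := (IsLocalization.map_eq_zero_iff (Submonoid.powers (b h)) B'L _).mp h2
    simp only at hi hj
    have h0 : h ^ (i + j) * x = 0 := by
      refine hinj _ ?_ ?_
      · rw [map_mul, map_pow, pow_add]; linear_combination (a h ^ j) * hi
      · rw [map_mul, map_pow, pow_add]; linear_combination (b h ^ i) * hj
    have h3 := congrArg (algebraMap A AL) h0
    rw [map_mul, map_zero, map_pow, ← hx, ← mul_assoc] at h3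
    exact (hu.pow (i + j)).mul_right_eq_zero.mp ((hu.pow n).mul_left_eq_zero.mp h3)
  · obtain ⟨n, x, hx⟩ := IsLocalization.Away.surj (a h) s
    obtain ⟨m, y, hy⟩ := IsLocalization.Away.surj (b h) t
    have hc : algebraMap C CL (f x * f (a h) ^ m) = algebraMap C CL (g y * f (a h) ^ n) := by
      have hgb : algebraMap C CL (f (a h)) = gL (algebraMap B' B'L (b h)) := by rw [cg, hw]
      have hfa : algebraMap C CL (f (a h)) = fL (algebraMap B BL (a h)) := (cf _).symm
      rw [map_mul, map_mul, map_pow, map_pow, ← cf, ← cg, ← hx, ← hy, map_mul, map_mul, map_pow, map_pow,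
        ← hgb, ← hfa, hst]
      ring
    obtain ⟨⟨_, k, rfl⟩, hk⟩ := (IsLocalization.eq_iff_exists (Submonoid.powers (f (a h))) CL).mp hc
    simp only at hk
    obtain ⟨c, hca, hcb⟩ := hex (x * a h ^ (m + k)) (y * b h ^ (n + k)) (by
      rw [map_mul, map_mul, map_pow, map_pow, ← hw h, pow_add, pow_add]
      linear_combination hk)
    obtain ⟨v, hv⟩ := hu.pow (n + m + k)
    refine ⟨algebraMap A AL c * ↑v⁻¹, ?_, ?_⟩
    · have hvv : aL ↑v⁻¹ * aL (algebraMap A AL h) ^ (n + m + k) = 1 := by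
        rw [← map_pow, ← map_mul, ← hv, Units.inv_mul, map_one]
      rw [map_mul, ca, hca, map_mul, map_pow, ← hx]
      rw [ca] at hvv
      linear_combination s * hvv
    · have hvv : bL ↑v⁻¹ * bL (algebraMap A AL h) ^ (n + m + k) = 1 := by
        rw [← map_pow, ← map_mul, ← hv, Units.inv_mul, map_one]
      rw [map_mul, cb, hcb, map_mul, map_pow, ← hy]
      rw [cb] at hvv
      linear_combination t * hvv

/-- A pushout of rings is the tensor product. -/
theorem exists_equiv_of_isPushout {R R' A AT : Type u} [CommRing R] [CommRing R'] [CommRing A] [CommRing AT]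
    [Algebra R A] [Algebra R R'] (iA : A →+* AT) (jA : R' →+* AT)
    (h : IsPushout (CommRingCat.ofHom (algebraMap R A)) (CommRingCat.ofHom (algebraMap R R'))
      (CommRingCat.ofHom iA) (CommRingCat.ofHom jA)) :
    ∃ e : R' ⊗[R] A ≃+* AT, ∀ x y, e (x ⊗ₜ y) = jA x * iA y := by
  let i := ((CommRingCat.isPushout_tensorProduct R R' A).flip.isoPushout ≪≫ h.isoPushout.symm).commRingCatIsoToRingEquiv
  have h1 : ∀ x : R', i (x ⊗ₜ 1) = jA x := fun x => by
    have := ConcreteCategory.congr_hom ((CommRingCat.isPushout_tensorProduct R R' A).flip.inr_isoPushout_hom) x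
    show h.isoPushout.inv ((CommRingCat.isPushout_tensorProduct R R' A).flip.isoPushout.hom (x ⊗ₜ 1)) = _
    erw [this]
    exact ConcreteCategory.congr_hom h.inr_isoPushout_inv x
  have h2 : ∀ y : A, i (1 ⊗ₜ y) = iA y := fun y => by
    have := ConcreteCategory.congr_hom ((CommRingCat.isPushout_tensorProduct R R' A).flip.inl_isoPushout_hom) y
    show h.isoPushout.inv ((CommRingCat.isPushout_tensorProduct R R' A).flip.isoPushout.hom (1 ⊗ₜ y)) = _
    erw [this]
    exact ConcreteCategory.congr_hom h.inl_isoPushout_inv y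
  refine ⟨i, fun x y => ?_⟩
  rw [← h1, ← h2, ← map_mul, Algebra.TensorProduct.tmul_mul_tmul, mul_one, one_mul]

/-- A fibre product of flat algebras stays one after base change. -/
theorem fibre_baseChange {R R' A B B' C AT BT B'T CT : Type u} [CommRing R] [CommRing R'] [CommRing A] [CommRing B]
    [CommRing B'] [CommRing C] [CommRing AT] [CommRing BT] [CommRing B'T] [CommRing CT]
    [Algebra R R'] [Algebra R A] [Algebra R B] [Algebra R B'] [Algebra R C]
    [Module.Flat R B] [Module.Flat R B'] [Module.Flat R C]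
    (a : A →ₐ[R] B) (b : A →ₐ[R] B') (f : B →ₐ[R] C) (g : B' →ₐ[R] C) (hf : Function.Surjective f)
    (hw : ∀ x, f (a x) = g (b x))
    (hinj : ∀ p, a p = 0 → b p = 0 → p = 0) (hex : ∀ s t, f s = g t → ∃ p, a p = s ∧ b p = t)
    (eA : R' ⊗[R] A ≃+* AT) (eB : R' ⊗[R] B ≃+* BT) (eB' : R' ⊗[R] B' ≃+* B'T) (eC : R' ⊗[R] C ≃+* CT)
    (aT : AT →+* BT) (bT : AT →+* B'T) (fT : BT →+* CT) (gT : B'T →+* CT)
    (ca : ∀ x y, aT (eA (x ⊗ₜ y)) = eB (x ⊗ₜ a y)) (cb : ∀ x y, bT (eA (x ⊗ₜ y)) = eB' (x ⊗ₜ b y))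
    (cf : ∀ x y, fT (eB (x ⊗ₜ y)) = eC (x ⊗ₜ f y)) (cg : ∀ x y, gT (eB' (x ⊗ₜ y)) = eC (x ⊗ₜ g y)) :
    (∀ p, aT p = 0 → bT p = 0 → p = 0) ∧ ∀ s t, fT s = gT t → ∃ p, aT p = s ∧ bT p = t := by
  letI : Algebra A B := a.toRingHom.toAlgebra
  letI : Algebra A B' := b.toRingHom.toAlgebra
  letI : Algebra B C := f.toRingHom.toAlgebra
  letI : Algebra B' C := g.toRingHom.toAlgebra
  letI : Algebra A C := (f.comp a).toRingHom.toAlgebra
  haveI : IsScalarTower A B C := .of_algebraMap_eq' rfl
  haveI : IsScalarTower A B' C := .of_algebraMap_eq fun x => hw x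
  haveI : IsScalarTower R A B := .of_algebraMap_eq fun r => (a.commutes r).symm
  haveI : IsScalarTower R A B' := .of_algebraMap_eq fun r => (b.commutes r).symm
  haveI : IsScalarTower R B C := .of_algebraMap_eq fun r => (f.commutes r).symm
  haveI : IsScalarTower R B' C := .of_algebraMap_eq fun r => (g.commutes r).symm
  haveI : IsScalarTower R A C := .of_algebraMap_eq fun r => ((f.comp a).commutes r).symm
  have hsq : EtMil.IsFibreSquare A B' B C := ⟨hf, fun t s hts => by
    obtain ⟨p, hp1, hp2⟩ := hex s t hts.symm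
    refine ⟨p, ⟨hp2, hp1⟩, fun p' hp' => sub_eq_zero.mp (hinj _ ?_ ?_)⟩
    · rw [map_sub]; exact sub_eq_zero.mpr (hp'.2.trans hp1.symm)
    · rw [map_sub]; exact sub_eq_zero.mpr (hp'.1.trans hp2.symm)⟩
  obtain ⟨-, H⟩ := Groth.Agent.S17901.result R A B' B C hsq R'
  let mA := Algebra.TensorProduct.map (AlgHom.id R R') (IsScalarTower.toAlgHom R A B)
  let mB := Algebra.TensorProduct.map (AlgHom.id R R') (IsScalarTower.toAlgHom R A B')
  let mF := Algebra.TensorProduct.map (AlgHom.id R R') (IsScalarTower.toAlgHom R B C)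
  let mG := Algebra.TensorProduct.map (AlgHom.id R R') (IsScalarTower.toAlgHom R B' C)
  have ka : ∀ z, aT (eA z) = eB (mA z) := fun z => by
    induction z with
    | zero => simp
    | add u v hu hv => simp only [map_add, hu, hv]
    | tmul u v => exact ca u v
  have kb : ∀ z, bT (eA z) = eB' (mB z) := fun z => by
    induction z with
    | zero => simp
    | add u v hu hv => simp only [map_add, hu, hv]
    | tmul u v => exact cb u v
  have kf : ∀ z, fT (eB z) = eC (mF z) := fun z => by
    induction z with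
    | zero => simp
    | add u v hu hv => simp only [map_add, hu, hv]
    | tmul u v => exact cf u v
  have kg : ∀ z, gT (eB' z) = eC (mG z) := fun z => by
    induction z with
    | zero => simp
    | add u v hu hv => simp only [map_add, hu, hv]
    | tmul u v => exact cg u v
  refine ⟨fun p hp hp' => ?_, fun s t hst => ?_⟩
  · obtain ⟨z, rfl⟩ := eA.surjective p
    rw [ka, map_eq_zero_iff _ eB.injective] at hp
    rw [kb, map_eq_zero_iff _ eB'.injective] at hp'
    obtain ⟨w, -, huniq⟩ := H 0 0 (by simp)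
    rw [(huniq z ⟨hp', hp⟩).trans (huniq 0 ⟨map_zero _, map_zero _⟩).symm, map_zero]
  · obtain ⟨s, rfl⟩ := eB.surjective s
    obtain ⟨t, rfl⟩ := eB'.surjective t
    rw [kf, kg, eC.injective.eq_iff] at hst
    obtain ⟨w, ⟨hw1, hw2⟩, -⟩ := H t s hst.symm
    exact ⟨eA w, by rw [ka]; exact congrArg eB hw2, by rw [kb]; exact congrArg eB' hw1⟩

end PinchBCLib
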