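import Groth.Agent.RSPushoutLib.Sections
import Groth.Agent.PushLib.FibSq
import Mathlib

/-! A criterion for a pinching square to be a pushout in ringed spaces. -/

set_option autoImplicit false
set_option maxHeartbeats 800000
set_option backward.isDefEq.respectTransparency false
universe u

open CategoryTheory CategoryTheory.Limits AlgebraicGeometry TopologicalSpace Opposite

namespace PinchBCLib

noncomputable section

/-- The functor to ringed spaces. -/
abbrev toRS : Scheme.{u} ⥤ SheafedSpace CommRingCat.{u} :=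
  Scheme.forgetToLocallyRingedSpace ⋙ LocallyRingedSpace.forgetToSheafedSpace

variable {X Z Z' X' : Scheme.{u}} {ι : Z ⟶ X} {q : Z ⟶ Z'} {π : X ⟶ X'} {ι' : Z' ⟶ X'} (hw : ι ≫ π = q ≫ ι')

include hw in
theorem preimage_le (U : X'.Opens) : ι ⁻¹ᵁ π ⁻¹ᵁ U ≤ q ⁻¹ᵁ ι' ⁻¹ᵁ U := by
  rw [← Scheme.Hom.comp_preimage, ← Scheme.Hom.comp_preimage, hw]

/-- Sections over `U` are compatible pairs. -/
def SecProp (U : X'.Opens) : Prop :=
  (∀ p : Γ(X', U), π.app U p = 0 → ι'.app U p = 0 → p = 0) ∧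
    ∀ (s : Γ(X, π ⁻¹ᵁ U)) (t : Γ(Z', ι' ⁻¹ᵁ U)),
      ι.app (π ⁻¹ᵁ U) s = q.appLE (ι' ⁻¹ᵁ U) (ι ⁻¹ᵁ π ⁻¹ᵁ U) (preimage_le hw U) t →
      ∃ p : Γ(X', U), π.app U p = s ∧ ι'.app U p = t

theorem app_w (U : X'.Opens) :
    π.app U ≫ ι.app (π ⁻¹ᵁ U) = ι'.app U ≫ q.appLE (ι' ⁻¹ᵁ U) (ι ⁻¹ᵁ π ⁻¹ᵁ U) (preimage_le hw U) := by
  rw [π.app_eq_appLE, ι.app_eq_appLE, ι'.app_eq_appLE, Scheme.Hom.appLE_comp_appLE, Scheme.Hom.appLE_comp_appLE]
  congr 1

open Groth.Agent.PushLib

variable [IsClosedImmersion ι] [IsClosedImmersion ι'] [IsAffineHom π]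

/-- The fibre square of sections over an affine open. -/
def fibSq {U : X'.Opens} (hU : IsAffineOpen U) (h : SecProp hw U) :
    FibSq Γ(X', U) Γ(Z', ι' ⁻¹ᵁ U) Γ(X, π ⁻¹ᵁ U) Γ(Z, ι ⁻¹ᵁ π ⁻¹ᵁ U) where
  u := (ι'.app U).hom
  v := (π.app U).hom
  q := (q.appLE (ι' ⁻¹ᵁ U) (ι ⁻¹ᵁ π ⁻¹ᵁ U) (preimage_le hw U)).hom
  p := (ι.app (π ⁻¹ᵁ U)).hom
  w x := (ConcreteCategory.congr_hom (app_w hw U) x).symm
  surj := ι.app_surjective _ (hU.preimage π)
  inj x y hu hv := sub_eq_zero.mp (h.1 (x - y) (by rw [map_sub]; exact sub_eq_zero.mpr hv)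
    (by rw [map_sub]; exact sub_eq_zero.mpr hu))
  lift b a hba := (h.2 a b hba.symm).imp fun p hp => ⟨hp.2, hp.1⟩

omit [IsClosedImmersion ι] [IsClosedImmersion ι'] [IsAffineHom π] in
theorem fromSpec_comap {A B : Scheme.{u}} (f : A ⟶ B) {U : B.Opens} (hU : IsAffineOpen U)
    (hV : IsAffineOpen (f ⁻¹ᵁ U)) (P : PrimeSpectrum Γ(A, f ⁻¹ᵁ U)) :
    f (hV.fromSpec P) = hU.fromSpec (PrimeSpectrum.comap (f.app U).hom P) := by
  have h := IsAffineOpen.SpecMap_appLE_fromSpec f hU hV le_rfl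
  rw [← Scheme.Hom.comp_apply, ← h, f.app_eq_appLE]
  rfl

omit [IsClosedImmersion ι] [IsClosedImmersion ι'] [IsAffineHom π] in
theorem exists_fromSpec {A : Scheme.{u}} {U : A.Opens} (hU : IsAffineOpen U) {x : A} (hx : x ∈ U) :
    ∃ P : PrimeSpectrum Γ(A, U), hU.fromSpec P = x := by
  have : x ∈ Set.range hU.fromSpec := by rw [hU.range_fromSpec]; exact hx
  exact this

variable (hB : ∀ (W : X'.Opens) (x' : X'), x' ∈ W → ∃ U : X'.Opens, IsAffineOpen U ∧ x' ∈ U ∧ U ≤ W ∧ SecProp hw U)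

include hB in
theorem surj (x' : X') : (∃ y, π y = x') ∨ ∃ z', ι' z' = x' := by
  obtain ⟨U, hU, hx, -, hs⟩ := hB ⊤ x' trivial
  obtain ⟨P, rfl⟩ := exists_fromSpec hU hx
  rcases (fibSq hw hU hs).exists_prime_over P with ⟨R, hR⟩ | ⟨Q, -, hQ, -⟩
  · exact Or.inr ⟨(hU.preimage ι').fromSpec R, by rw [fromSpec_comap ι' hU]; exact congrArg hU.fromSpec hR⟩
  · exact Or.inl ⟨(hU.preimage π).fromSpec Q, by rw [fromSpec_comap π hU]; exact congrArg hU.fromSpec hQ⟩

include hB in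
theorem eq_or_mem_range (y y₂ : X) (h : π y = π y₂) : y = y₂ ∨ π y ∈ Set.range ι' := by
  obtain ⟨U, hU, hx, -, hs⟩ := hB ⊤ (π y) trivial
  let S := fibSq hw hU hs
  obtain ⟨R, rfl⟩ := exists_fromSpec (hU.preimage π) (show y ∈ π ⁻¹ᵁ U from hx)
  obtain ⟨R₂, rfl⟩ := exists_fromSpec (hU.preimage π) (show y₂ ∈ π ⁻¹ᵁ U from (h ▸ hx : π y₂ ∈ U))
  have he : PrimeSpectrum.comap S.v R = PrimeSpectrum.comap S.v R₂ := by
    rw [fromSpec_comap π hU, fromSpec_comap π hU] at h
    exact hU.fromSpec.isOpenEmbedding.injective h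
  rcases S.exists_prime_over (PrimeSpectrum.comap S.v R) with ⟨Q, hQ⟩ | ⟨-, j, -, hj, hjP⟩
  · refine Or.inr ⟨(hU.preimage ι').fromSpec Q, ?_⟩
    rw [fromSpec_comap ι' hU, fromSpec_comap π hU]
    exact congrArg hU.fromSpec hQ
  · refine Or.inl (congrArg _ (PrimeSpectrum.ext (Ideal.ext fun x => ?_)))
    rw [S.v_comap_mem R j hj hjP, S.v_comap_mem R₂ j hj
      (show j ∉ (PrimeSpectrum.comap S.v R₂).asIdeal from he ▸ hjP), he]

include hB in
theorem exists_of_eq (y : X) (z' : Z') (h : π y = ι' z') : ∃ z, ι z = y ∧ q z = z' := by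
  obtain ⟨U, hU, hx, -, hs⟩ := hB ⊤ (π y) trivial
  obtain ⟨R, rfl⟩ := exists_fromSpec (hU.preimage π) (show y ∈ π ⁻¹ᵁ U from hx)
  obtain ⟨Q, rfl⟩ := exists_fromSpec (hU.preimage ι') (show z' ∈ ι' ⁻¹ᵁ U from (h ▸ hx : ι' z' ∈ U))
  rw [fromSpec_comap π hU, fromSpec_comap ι' hU] at h
  obtain ⟨P, hPq, hPp⟩ := (fibSq hw hU hs).comap_eq_cases (hU.fromSpec.isOpenEmbedding.injective h).symm
  refine ⟨((hU.preimage π).preimage ι).fromSpec P, ?_, ?_⟩
  · rw [fromSpec_comap ι (hU.preimage π)]; exact congrArg _ hPp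
  · have h2 := IsAffineOpen.SpecMap_appLE_fromSpec q (hU.preimage ι') ((hU.preimage π).preimage ι) (preimage_le hw U)
    rw [← Scheme.Hom.comp_apply, ← h2, Scheme.Hom.comp_apply]
    exact congrArg _ hPq

include hB in
theorem isOpen_of_preimages (W : Set X') (h1 : IsOpen (π ⁻¹' W)) (h2 : IsOpen (ι' ⁻¹' W)) : IsOpen W := by
  rw [isOpen_iff_forall_mem_open]
  intro x' hx'
  obtain ⟨U, hU, hxU, -, hs⟩ := hB ⊤ x' trivial
  have hop : IsOpen (hU.fromSpec ⁻¹' W) := by
    refine (fibSq hw hU hs).isOpen_of_preimages _ ?_ ?_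
    · have e : PrimeSpectrum.comap (ι'.app U).hom ⁻¹' (hU.fromSpec ⁻¹' W) = (hU.preimage ι').fromSpec ⁻¹' (ι' ⁻¹' W) :=
        Set.ext fun R => (congrArg (· ∈ W) (fromSpec_comap ι' hU (hU.preimage ι') R)).symm.to_iff
      exact e ▸ h2.preimage (hU.preimage ι').fromSpec.continuous
    · have e : PrimeSpectrum.comap (π.app U).hom ⁻¹' (hU.fromSpec ⁻¹' W) = (hU.preimage π).fromSpec ⁻¹' (π ⁻¹' W) :=
        Set.ext fun R => (congrArg (· ∈ W) (fromSpec_comap π hU (hU.preimage π) R)).symm.to_iff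
      exact e ▸ h1.preimage (hU.preimage π).fromSpec.continuous
  obtain ⟨P, rfl⟩ := exists_fromSpec hU hxU
  exact ⟨hU.fromSpec '' (hU.fromSpec ⁻¹' W), Set.image_preimage_subset _ _,
    hU.fromSpec.isOpenEmbedding.isOpenMap _ hop, ⟨P, hx', rfl⟩⟩

include hB hw in
theorem isPushout_top : IsPushout ι.base q.base π.base ι'.base := by
  classical
  have w : ι.base ≫ π.base = q.base ≫ ι'.base := by rw [← Scheme.Hom.comp_base, hw, Scheme.Hom.comp_base]
  have key : ∀ s : PushoutCocone ι.base q.base, ∃ φ : X'.carrier ⟶ s.pt,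
      π.base ≫ φ = s.inl ∧ ι'.base ≫ φ = s.inr := by
    intro s
    have hs : ∀ z, s.inl (ι z) = s.inr (q z) := fun z => ConcreteCategory.congr_hom s.condition z
    choose g hg using fun x' (hx : ¬ ∃ z', ι' z' = x') => ((surj hw hB x').resolve_right hx)
    let φ : X' → s.pt := fun x' => if hx : ∃ z', ι' z' = x' then s.inr hx.choose else s.inl (g x' hx)
    have hZ : ∀ z', φ (ι' z') = s.inr z' := fun z' => by
      have hx : ∃ z, ι' z = ι' z' := ⟨z', rfl⟩
      simp only [φ, dif_pos hx]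
      exact congrArg _ (ι'.isClosedEmbedding.injective hx.choose_spec)
    have hX : ∀ y, φ (π y) = s.inl y := fun y => by
      by_cases hx : ∃ z', ι' z' = π y
      · obtain ⟨z', hz'⟩ := hx
        obtain ⟨z, rfl, rfl⟩ := exists_of_eq hw hB y z' hz'.symm
        rw [← hz', hZ]
        exact (hs z).symm
      · simp only [φ, dif_neg hx]
        rcases eq_or_mem_range hw hB (g _ hx) y (hg _ hx) with h | h
        · rw [h]
        · rw [hg _ hx] at h; exact absurd h hx
    have hc : Continuous φ := continuous_def.mpr fun O hO => by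
      refine isOpen_of_preimages hw hB _ ?_ ?_
      · have e : π ⁻¹' (φ ⁻¹' O) = s.inl ⁻¹' O := Set.ext fun y => (congrArg (· ∈ O) (hX y)).to_iff
        exact e ▸ hO.preimage s.inl.hom.continuous
      · have e : ι' ⁻¹' (φ ⁻¹' O) = s.inr ⁻¹' O := Set.ext fun y => (congrArg (· ∈ O) (hZ y)).to_iff
        exact e ▸ hO.preimage s.inr.hom.continuous
    exact ⟨TopCat.ofHom ⟨φ, hc⟩, ConcreteCategory.hom_ext _ _ hX, ConcreteCategory.hom_ext _ _ hZ⟩
  choose φ h1 h2 using key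
  refine IsPushout.of_isColimit' ⟨w⟩ (PushoutCocone.IsColimit.mk w φ h1 h2 fun s m hm1 hm2 => ?_)
  refine ConcreteCategory.hom_ext _ _ fun x' => ?_
  rcases surj hw hB x' with ⟨y, rfl⟩ | ⟨z', rfl⟩
  · exact (ConcreteCategory.congr_hom hm1 y).trans (ConcreteCategory.congr_hom (h1 s) y).symm
  · exact (ConcreteCategory.congr_hom hm2 z').trans (ConcreteCategory.congr_hom (h2 s) z').symm

omit [IsClosedImmersion ι] [IsClosedImmersion ι'] [IsAffineHom π] in
theorem app_bijective {A B C P Q : PresheafedSpace.{u, u + 1, u} CommRingCat.{u}} (f : C ⟶ A) (g : C ⟶ B)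
    (a : A ⟶ P) (b : B ⟶ P) (w : f ≫ a = g ≫ b) (h : RSPushoutLib.IsFibreProductSections f g a b w)
    (e : P ⟶ Q) (a' : A ⟶ Q) (b' : B ⟶ Q) (ha : a ≫ e = a') (hb : b ≫ e = b') (w' : f ≫ a' = g ≫ b') (U : Opens Q)
    (h' : (∀ p : Q.presheaf.obj (op U), a'.c.app (op U) p = 0 → b'.c.app (op U) p = 0 → p = 0) ∧
      ∀ (s : A.presheaf.obj (op ((Opens.map a'.base).obj U))) (t : B.presheaf.obj (op ((Opens.map b'.base).obj U))),
        f.c.app (op ((Opens.map a'.base).obj U)) s =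
          C.presheaf.map (eqToHom (congrArg (fun k : C ⟶ Q => op ((Opens.map k.base).obj U)) w').symm)
            (g.c.app (op ((Opens.map b'.base).obj U)) t) →
        ∃ p : Q.presheaf.obj (op U), a'.c.app (op U) p = s ∧ b'.c.app (op U) p = t) :
    Function.Bijective (e.c.app (op U)) := by
  subst ha hb
  refine ⟨(injective_iff_map_eq_zero _).mpr fun p hp => h'.1 p ?_ ?_, fun r => ?_⟩
  · show a.c.app _ (e.c.app (op U) p) = 0
    exact (congrArg _ hp).trans (map_zero _)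
  · show b.c.app _ (e.c.app (op U) p) = 0
    exact (congrArg _ hp).trans (map_zero _)
  · obtain ⟨h1, -⟩ := h ((Opens.map e.base).obj U)
    have hc := ConcreteCategory.congr_hom (PresheafedSpace.congr_app w (op ((Opens.map e.base).obj U))) r
    obtain ⟨p, hp1, hp2⟩ := h'.2 (a.c.app _ r) (b.c.app _ r) hc
    refine ⟨p, sub_eq_zero.mp (h1 _ ?_ ?_)⟩
    · rw [map_sub]; exact sub_eq_zero.mpr hp1
    · rw [map_sub]; exact sub_eq_zero.mpr hp2

include hB in
theorem isPushout_ringedSpace : IsPushout (toRS.map ι) (toRS.map q) (toRS.map π) (toRS.map ι') := by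
  have w : toRS.map ι ≫ toRS.map π = toRS.map q ≫ toRS.map ι' := by rw [← Functor.map_comp, hw, Functor.map_comp]
  let hP := IsPushout.of_hasPushout (toRS.map ι) (toRS.map q)
  let e : pushout (toRS.map ι) (toRS.map q) ⟶ toRS.obj X' := pushout.desc (toRS.map π) (toRS.map ι') w
  have ha : pushout.inl _ _ ≫ e = toRS.map π := pushout.inl_desc _ _ _
  have hb : pushout.inr _ _ ≫ e = toRS.map ι' := pushout.inr_desc _ _ _
  let ep := SheafedSpace.forgetToPresheafedSpace.map e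
  have hbase : IsIso ep.base := by
    have hT := isPushout_top hw hB
    have hPT := hP.map (SheafedSpace.forget CommRingCat.{u})
    let φ := hT.desc (hPT.cocone.inl) (hPT.cocone.inr) hPT.w
    refine ⟨⟨φ, hPT.hom_ext ?_ ?_, hT.hom_ext ?_ ?_⟩⟩
    · rw [← Category.assoc]
      show (SheafedSpace.forget CommRingCat.{u}).map (pushout.inl _ _) ≫ (SheafedSpace.forget CommRingCat.{u}).map e ≫ φ = _
      rw [← Functor.map_comp_assoc, ha]
      exact (hT.inl_desc _ _ _).trans (Category.comp_id _).symm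
    · rw [← Category.assoc]
      show (SheafedSpace.forget CommRingCat.{u}).map (pushout.inr _ _) ≫ (SheafedSpace.forget CommRingCat.{u}).map e ≫ φ = _
      rw [← Functor.map_comp_assoc, hb]
      exact (hT.inr_desc _ _ _).trans (Category.comp_id _).symm
    · rw [hT.inl_desc_assoc]
      show (SheafedSpace.forget CommRingCat.{u}).map (pushout.inl _ _) ≫ (SheafedSpace.forget CommRingCat.{u}).map e = _
      rw [← Functor.map_comp, ha]
      exact (Category.comp_id _).symm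
    · rw [hT.inr_desc_assoc]
      show (SheafedSpace.forget CommRingCat.{u}).map (pushout.inr _ _) ≫ (SheafedSpace.forget CommRingCat.{u}).map e = _
      rw [← Functor.map_comp, hb]
      exact (Category.comp_id _).symm
  let hPP := RSPushoutLib.isPushout_sections (hP.map SheafedSpace.forgetToPresheafedSpace)
  haveI hcIso : IsIso ep.c := by
    let F : TopCat.Sheaf CommRingCat.{u} X'.carrier := X'.sheaf
    let G : TopCat.Sheaf CommRingCat.{u} X'.carrier :=
      (TopCat.Sheaf.pushforward CommRingCat.{u} ep.base).obj (pushout (toRS.map ι) (toRS.map q)).sheaf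
    let ψ : F ⟶ G := ⟨ep.c⟩
    let Bs : {U : X'.Opens // IsAffineOpen U ∧ SecProp hw U} → X'.Opens := Subtype.val
    have hbasis : Opens.IsBasis (Set.range Bs) := Opens.isBasis_iff_nbhd.mpr fun {W x} hx => by
      obtain ⟨U, h1, h2, h3, h4⟩ := hB W x hx
      exact ⟨U, ⟨⟨U, h1, h4⟩, rfl⟩, h2, h3⟩
    have hψ : IsIso ψ := TopCat.Sheaf.isIso_iff_isIso_basis hbasis fun i => by
      rw [ConcreteCategory.isIso_iff_bijective]
      exact app_bijective _ _ _ _ _ hPP ep (SheafedSpace.forgetToPresheafedSpace.map (toRS.map π))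
        (SheafedSpace.forgetToPresheafedSpace.map (toRS.map ι'))
        (by rw [← Functor.map_comp, ha]) (by rw [← Functor.map_comp, hb])
        ((Functor.map_comp _ _ _).symm.trans ((congrArg _ w).trans (Functor.map_comp _ _ _))) i.1 i.2.2
    exact inferInstanceAs (IsIso ((TopCat.Sheaf.forget CommRingCat.{u} X'.carrier).map ψ))
  haveI : IsIso (SheafedSpace.forgetToPresheafedSpace.map e) := PresheafedSpace.isIso_of_components ep
  haveI : IsIso e := isIso_of_reflects_iso e SheafedSpace.forgetToPresheafedSpace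
  exact hP.of_iso (Iso.refl _) (Iso.refl _) (Iso.refl _) (asIso e) (by simp) (by simp) (by rw [Iso.refl_hom, Category.id_comp, asIso_hom]; exact ha) (by rw [Iso.refl_hom, Category.id_comp, asIso_hom]; exact hb)

end

end PinchBCLib
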